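import Cfsg.Agent.LocalB.TransPairs
import Cfsg.Agent.Coprime.Generation

/-! Abelian 2-groups of operators with small fixed-point index: they are elementary. -/

set_option autoImplicit false
set_option linter.unusedVariables false
set_option linter.unusedSectionVars false
set_option linter.style.haveILetI false

namespace CfsgLib.AbelOff

open Subgroup Cfsg CfsgLib CfsgLib.OddOffender

universe u v

variable {H : Type u} [Group H] {V : Type v} [CommGroup V] (ρ : H →* MulAut V)

theorem delta_sq (hV : ∀ x : V, x * x = 1) (g : H) (x : V) :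
    delta ρ (g * g) x = delta ρ g (delta ρ g x) := by
  show x * ρ (g * g) x = x * ρ g x * ρ g (x * ρ g x)
  rw [apply_mul, map_mul (ρ g), mul_assoc x, ← mul_assoc (ρ g x), hV, one_mul]

theorem iterate_delta_two_pow (hV : ∀ x : V, x * x = 1) (g : H) :
    ∀ (j : ℕ) (x : V), (⇑(delta ρ g))^[2 ^ j] x = delta ρ (g ^ 2 ^ j) x := by
  intro j
  induction j with
  | zero => intro x; simp
  | succ j ih =>
    intro x
    rw [pow_succ, mul_two, Function.iterate_add_apply, ih, ih, pow_add, delta_sq ρ hV]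

/-- A nilpotent endomorphism drops the order by at least a factor two in each step. -/
theorem two_pow_le {M : Type*} [Group M] [Finite M] (f : M →* M) {n : ℕ}
    (hn : ∀ x, (⇑f)^[n] x = 1) : ∀ (i : ℕ) (U : Subgroup M), U.map f ≤ U →
      (∃ x ∈ U, (⇑f)^[i] x ≠ 1) → 2 ^ (i + 1) ≤ Nat.card U := by
  intro i
  induction i with
  | zero =>
    rintro U - ⟨x, hx, hne⟩
    rw [Function.iterate_zero_apply] at hne
    rw [zero_add, pow_one]
    exact one_lt_card_iff_ne_bot U |>.mpr fun h => hne (mem_bot.mp (h ▸ hx))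
  | succ i ih =>
    rintro U hU ⟨x, hx, hne⟩
    have h2 : 2 ^ (i + 1) ≤ Nat.card ↥(U.map f) := by
      refine ih (U.map f) ?_ ⟨f x, mem_map_of_mem f hx, ?_⟩
      · exact map_mono hU
      · rwa [Function.iterate_succ_apply] at hne
    have hlt : U.map f ≠ U := by
      intro heq
      have key : ∀ k : ℕ, ∀ y ∈ U, ∃ z ∈ U, (⇑f)^[k] z = y := by
        intro k
        induction k with
        | zero => intro y hy; exact ⟨y, hy, rfl⟩
        | succ k ihk =>
          intro y hy
          obtain ⟨z, hz, rfl⟩ := ihk y hy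
          obtain ⟨w, hw, rfl⟩ := heq.ge hz
          exact ⟨w, hw, Function.iterate_succ_apply _ _ _⟩
      obtain ⟨z, -, rfl⟩ := key n x hx
      rw [hn] at hne
      exact hne (iterate_map_one f _)
    obtain ⟨c, hc⟩ := card_dvd_of_le hU
    have hc2 : 2 ≤ c := by
      by_contra h
      rcases (show c = 0 ∨ c = 1 by omega) with rfl | rfl
      · rw [mul_zero] at hc; exact absurd hc Nat.card_pos.ne'
      · rw [mul_one] at hc; exact hlt (eq_of_le_of_card_ge hU hc.le)
    rw [hc, pow_succ]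
    exact Nat.mul_le_mul h2 hc2

theorem double_lt : ∀ j : ℕ, j + 3 < 2 ^ (j + 2) := by
  intro j
  induction j with
  | zero => norm_num
  | succ j ih => rw [show j + 1 + 2 = (j + 2) + 1 by omega, pow_succ]; omega

variable [Finite H] [Finite V] (hρ : Function.Injective ρ) (hV : ∀ x : V, x * x = 1)
variable [Group.IsSolvable H] (hO : ∀ N : Subgroup H, N.Normal → IsPGroup 2 N → N = ⊥)

include hρ hV hO

/-- No square of an element is a transvection. -/
theorem not_isTrans_sq (g : H) : ¬ IsTrans ρ (g * g) := by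
  intro hb
  obtain ⟨η, v, h⟩ := exists_TF ρ hρ hV hO hb
  have h' := h.conj (hρ := hρ) (hV := hV) (hO := hO) g
  rw [show g * (g * g) * g⁻¹ = g * g by group] at h'
  have hodd := odd_of_cube ρ hρ hV h.fac.2.1
  obtain ⟨u, hu, hu1, huv⟩ : ∃ u ∈ comm ρ η, u ≠ 1 ∧ u ≠ v := by
    by_contra hno
    simp only [not_exists, not_and, not_not] at hno
    classical
    have : Fintype (comm ρ η) := Fintype.ofFinite _
    have hsub : (Finset.univ : Finset (comm ρ η)) ⊆ {1, ⟨v, h.mem⟩} := fun z _ => by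
      simp only [Finset.mem_insert, Finset.mem_singleton, Subtype.ext_iff]
      by_cases hz : (z : V) = 1
      · exact Or.inl hz
      · exact Or.inr (hno z z.2 hz)
    have := (Finset.card_le_card hsub).trans Finset.card_le_two
    rw [Finset.card_univ, ← Nat.card_eq_fintype_card, card_comm ρ hV, h.fac.2.2.2] at this
    omega
  have e := h.moves u hu hu1 huv
  have hgv : ρ g v = v := by
    rcases h'.range u with e' | e'
    · exact absurd (mul_eq_left.mp (e.symm.trans e')) h.ne
    · exact mul_left_cancel (e'.symm.trans e)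
  have hz : g * η * g⁻¹ ∈ zpowers η := by
    refine mem_zpowers_of_inf_ne_bot ρ hρ hV hO h.fac h'.fac fun hbot => h.ne ?_
    exact mem_bot.mp (hbot ▸ (⟨h.mem, hgv ▸ h'.mem⟩ : v ∈ comm ρ η ⊓ comm ρ (g * η * g⁻¹)))
  obtain ⟨i, hi⟩ := mem_zpowers_iff.mp hz
  have h2 : η ^ (i * i + 1) = 1 := by
    rw [zpow_add, zpow_one, zpow_mul, hi, conj_zpow, hi, ← mul_eq_one_iff_eq_inv.mpr rfl]
    rw [show g * (g * η * g⁻¹) * g⁻¹ = (g * g) * η * (g * g)⁻¹ by group, h.inv, inv_mul_cancel]
  have h3 : orderOf η = 3 := orderOf_eq_prime h.fac.2.1 h.fac.2.2.1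
  have h4 : ((3 : ℕ) : ℤ) ∣ i * i + 1 := h3 ▸ orderOf_dvd_iff_zpow_eq_one.mpr h2
  obtain ⟨c, hc⟩ := h4
  rcases (show i % 3 = 0 ∨ i % 3 = 1 ∨ i % 3 = 2 by omega) with e3 | e3 | e3 <;>
    · have e4 : i * i % 3 = (i % 3) * (i % 3) % 3 := Int.mul_emod i i 3
      rw [e3] at e4
      omega

/-- An abelian 2-group which is not elementary has order smaller than the index of its fixed
points. -/
theorem card_lt_index : ∀ A : Subgroup H, (∀ x ∈ A, ∀ y ∈ A, x * y = y * x) → IsPGroup 2 A →
    (∃ a ∈ A, a * a ≠ 1) → Nat.card A < (fix ρ (A : Set H)).index := by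
  intro A
  induction hn : Nat.card A using Nat.strong_induction_on generalizing A with
  | _ n ih =>
  intro hc hp hne
  subst hn
  classical
  have : Fact (Nat.Prime 2) := ⟨Nat.prime_two⟩
  -- an element of order four
  obtain ⟨a, haA, ha4, ha2⟩ : ∃ a ∈ A, a ^ 4 = 1 ∧ a ^ 2 ≠ 1 := by
    obtain ⟨a, ha, h⟩ := hne
    obtain ⟨k, hk⟩ := hp ⟨a, ha⟩
    have hk' : a ^ 2 ^ k = 1 := congrArg Subtype.val hk
    induction k generalizing a with
    | zero =>
      rw [pow_zero, pow_one] at hk'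
      exact absurd (by rw [hk', one_mul]) h
    | succ k ihk =>
      by_cases h4 : a ^ 4 = 1
      · exact ⟨a, ha, h4, by rwa [pow_two]⟩
      · refine ihk (a * a) (mul_mem ha ha) (fun h' => h4 (by rw [show (4 : ℕ) = 2 * 2 by norm_num, pow_mul, pow_two, pow_two]; exact h')) ?_ ?_
        · exact Subtype.ext (by
            show (a * a) ^ 2 ^ k = 1
            rw [← pow_two, ← pow_mul, ← pow_succ']; exact hk')
        · rw [← pow_two, ← pow_mul, ← pow_succ']; exact hk'
  set b := a ^ 2 with hb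
  have hbA : b ∈ A := pow_mem haA 2
  have hb2 : b * b = 1 := by rw [hb, ← pow_add]; exact ha4
  set F := fittingSubgroup H with hF
  -- minimal invariant subgroup of `F` not centralized by `b`
  have hFne : ∃ k ∈ F, b * k * b⁻¹ ≠ k := by
    by_contra hall
    simp only [not_exists, not_and, not_not] at hall
    have hbF : b ∈ F := Fitting.centralizer_fittingSubgroup_le_of_solvable
      (mem_centralizer_iff.mpr fun f hf => (mul_inv_eq_iff_eq_mul.mp (hall f hf)).symm)
    have hdvd := F.orderOf_dvd_natCard hbF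
    rw [orderOf_eq_prime (by rw [pow_two, hb2]) ha2] at hdvd
    exact not_two_dvd_fitting hO hdvd
  obtain ⟨R, ⟨hRF, hAR, k₀, hk₀, hbk⟩, hmin⟩ := Set.exists_min_image
    {R : Subgroup H | R ≤ F ∧ A ≤ normalizer (R : Set H) ∧ ∃ k ∈ R, b * k * b⁻¹ ≠ k}
    (fun R => Nat.card R) (Set.toFinite _) ⟨F, le_rfl, le_normalizer_of_normal, hFne⟩
  set B := A ⊓ centralizer (R : Set H) with hB
  have hBA : B ≤ A := inf_le_left
  have hbB : b ∉ B := fun h => hbk (mul_inv_eq_iff_eq_mul.mpr
    (mem_centralizer_iff.mp h.2 k₀ hk₀).symm)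
  set ψ : A →* MulAut R := R.normalizerMonoidHom.comp (Subgroup.inclusion hAR) with hψ
  have hval : ∀ (x : A) (r : R), ((ψ x r : R) : H) = (x : H) * r * (x : H)⁻¹ := fun x r => rfl
  have hker : ψ.ker = B.subgroupOf A := by
    ext x
    rw [MonoidHom.mem_ker, mem_subgroupOf]
    constructor
    · intro h
      refine ⟨x.2, mem_centralizer_iff.mpr fun r hr => ?_⟩
      have h1 := congrArg (fun e : MulAut R => ((e ⟨r, hr⟩ : R) : H)) h
      exact (mul_inv_eq_iff_eq_mul.mp h1).symm
    · intro h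
      refine MulEquiv.ext fun r => Subtype.ext ?_
      show (x : H) * r * (x : H)⁻¹ = r
      exact mul_inv_eq_iff_eq_mul.mpr (mem_centralizer_iff.mp h.2 r r.2).symm
  letI : CommGroup ψ.range :=
    { (inferInstance : Group ψ.range) with
      mul_comm := by
        rintro ⟨_, x, rfl⟩ ⟨_, y, rfl⟩
        refine Subtype.ext ?_
        show ψ x * ψ y = ψ y * ψ x
        rw [← map_mul, ← map_mul, show x * y = y * x from Subtype.ext (hc x x.2 y y.2)] }
  have hRodd : Odd (Nat.card R) := by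
    rw [Nat.odd_iff, ← Nat.two_dvd_ne_zero]
    exact fun h => not_two_dvd_fitting hO (h.trans (Subgroup.card_dvd_of_le hRF))
  have hp2 : IsPGroup 2 ψ.range := hp.of_surjective ψ.rangeRestrict ψ.rangeRestrict_surjective
  obtain ⟨k, hk⟩ := hp2.exists_card_eq
  have hcyc : IsCyclic ψ.range := by
    by_contra hnc
    have hcop : (Nat.card ψ.range).Coprime (Nat.card R) := by
      rw [hk]; exact (Nat.coprime_two_left.mpr hRodd).pow_left k
    have hgen := CfsgLib.Coprime.closure_fixed_eq_top (A := ψ.range) (G := R) hnc hcop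
    have hle : Subgroup.closure {g : R | ∃ x : ψ.range, x ≠ 1 ∧ x • g = g} ≤
        (centralizer ({b} : Set H)).subgroupOf R := by
      rw [closure_le]
      rintro g ⟨⟨_, x, rfl⟩, hx1, hxg⟩
      have hxg' : (x : H) * g * (x : H)⁻¹ = g := by
        rw [← hval]; exact congrArg Subtype.val hxg
      set R' := R ⊓ centralizer ({(x : H)} : Set H) with hR'
      by_contra hgb
      have hgb' : b * g * b⁻¹ ≠ g := fun h => hgb
        (mem_centralizer_singleton_iff.mpr (mul_inv_eq_iff_eq_mul.mp h).symm)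
      have hAR' : A ≤ normalizer (R' : Set H) := by
        intro c hc'
        refine mem_normalizer_iff.mpr fun y => ?_
        have hcx : Commute c (x : H) := hc c hc' x x.2
        simp only [hR', mem_inf, mem_centralizer_singleton_iff]
        refine and_congr (mem_normalizer_iff.mp (hAR hc') y) ?_
        conv_rhs => rw [show (x : H) = c * x * c⁻¹ by rw [hcx.eq, mul_inv_cancel_right]]
        constructor
        · intro h
          calc c * y * c⁻¹ * (c * x * c⁻¹) = c * (y * x) * c⁻¹ := by group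
            _ = c * (x * y) * c⁻¹ := by rw [h]
            _ = c * x * c⁻¹ * (c * y * c⁻¹) := by group
        · intro h
          calc y * x = c⁻¹ * (c * y * c⁻¹ * (c * x * c⁻¹)) * c := by group
            _ = c⁻¹ * (c * x * c⁻¹ * (c * y * c⁻¹)) * c := by rw [h]
            _ = x * y := by group
      have hgR' : (g : H) ∈ R' :=
        ⟨g.2, mem_centralizer_singleton_iff.mpr (mul_inv_eq_iff_eq_mul.mp hxg').symm⟩
      have hR'R : R ≤ R' := (eq_of_le_of_card_ge inf_le_left
        (hmin R' ⟨inf_le_left.trans hRF, hAR', g, hgR', hgb'⟩)).ge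
      refine hx1 (Subtype.ext (MulEquiv.ext fun r => Subtype.ext ?_))
      show (x : H) * r * (x : H)⁻¹ = r
      exact mul_inv_eq_iff_eq_mul.mpr (mem_centralizer_singleton_iff.mp (hR'R r.2).2).symm
    rw [hgen] at hle
    exact hbk (mul_inv_eq_iff_eq_mul.mpr
      (mem_centralizer_singleton_iff.mp (hle (mem_top (⟨k₀, hk₀⟩ : R)))).symm)
  -- a generator modulo `B`
  obtain ⟨gen, hgen⟩ := IsCyclic.exists_generator (α := ψ.range)
  obtain ⟨g, hg⟩ : ∃ g : A, ψ.rangeRestrict g = gen := ψ.rangeRestrict_surjective gen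
  have hord : orderOf gen = 2 ^ k := by rw [orderOf_eq_card_of_forall_mem_zpowers hgen, hk]
  have hk2 : 2 ≤ k := by
    have h4 : orderOf (ψ.rangeRestrict ⟨a, haA⟩) ∣ 2 ^ k := hk ▸ orderOf_dvd_natCard _
    by_contra hlt
    have h5 : orderOf (ψ.rangeRestrict ⟨a, haA⟩) ∣ 2 := h4.trans
      ((Nat.pow_dvd_pow 2 (show k ≤ 1 by omega)).trans (pow_one 2).dvd)
    rw [orderOf_dvd_iff_pow_eq_one, ← map_pow, ← MonoidHom.mem_ker, MonoidHom.ker_rangeRestrict,
      hker, mem_subgroupOf] at h5
    exact hbB h5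
  have hgm : ∀ j : ℕ, ((g : H) ^ 2 ^ j ∈ B ↔ k ≤ j) := by
    intro j
    have : (g : H) ^ 2 ^ j ∈ B ↔ gen ^ 2 ^ j = 1 := by
      rw [← hg, ← map_pow, ← MonoidHom.mem_ker, MonoidHom.ker_rangeRestrict, hker, mem_subgroupOf]
      rfl
    rw [this, ← orderOf_dvd_iff_pow_eq_one, hord]
    exact Nat.pow_dvd_pow_iff_le_right (by norm_num)
  have hcard : Nat.card A = 2 ^ k * Nat.card B := by
    have h1 : (B.subgroupOf A).index = 2 ^ k := by rw [← hker, index_ker, hk]
    rw [← h1, ← Nat.card_congr (subgroupOfEquivOfLe hBA).toEquiv, mul_comm, card_mul_index]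
  have hABg : ∀ x ∈ A, ∃ i : ℤ, (g : H) ^ (-i) * x ∈ B := by
    intro x hx
    obtain ⟨i, hi⟩ := mem_zpowers_iff.mp (hgen (ψ.rangeRestrict ⟨x, hx⟩))
    refine ⟨i, ?_⟩
    have : g ^ (-i) * ⟨x, hx⟩ ∈ ψ.rangeRestrict.ker := by
      rw [MonoidHom.mem_ker, map_mul, map_zpow, hg, ← hi, ← zpow_add, neg_add_cancel, zpow_zero]
    rw [MonoidHom.ker_rangeRestrict, hker, mem_subgroupOf] at this
    exact this
  -- the fixed points of `B`
  set U := fix ρ (B : Set H) with hU
  have hUA : fix ρ (A : Set H) ≤ U := fix_anti ρ hBA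
  have hgU : ∀ x ∈ U, ρ g x ∈ U := fun x hx y hy => by
    rw [← apply_mul, hc y (hBA hy) g g.2, apply_mul, hx y hy]
  have hRU : ∀ r ∈ R, ∀ x ∈ U, ρ r x ∈ U := fun r hr x hx y hy => by
    rw [← apply_mul, ← mem_centralizer_iff.mp hy.2 r hr, apply_mul, hx y hy]
  have hfaith : ∀ x ∈ A, (∀ u ∈ U, ρ x u = u) → x ∈ B := by
    intro x hx hfx
    refine ⟨hx, mem_centralizer_iff.mpr fun r hr => ?_⟩
    have hηR : x * r * x⁻¹ * r⁻¹ ∈ R :=
      mul_mem ((mem_normalizer_iff.mp (hAR hx) r).mp hr) (inv_mem hr)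
    have h1 : x * r * x⁻¹ * r⁻¹ = 1 := by
      refine eq_one_of_fix_le ρ hρ hV (B := B) (hp.to_le hBA)
        (odd_of_mem_fitting ρ hρ hV hO (hRF hηR)) (fun y hy => ?_) fun u hu => ?_
      · exact (mem_centralizer_iff.mp hy.2 _ hηR).symm
      · rw [mem_fix_singleton, apply_mul, apply_mul, apply_mul]
        have h2 : ρ x⁻¹ (ρ r⁻¹ u) = ρ r⁻¹ u := by
          have h3 := hfx _ (hRU _ (inv_mem hr) u hu)
          conv_lhs => rw [← h3]
          rw [← apply_mul, inv_mul_cancel, apply_one]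
        rw [h2, ← apply_mul ρ r, mul_inv_cancel, apply_one, hfx u hu]
    exact (mul_inv_eq_iff_eq_mul.mp (mul_inv_eq_one.mp h1)).symm
  -- the rank of `g - 1` on `U`
  let f : U →* U := ((delta ρ (g : H)).comp U.subtype).codRestrict U
    (fun x => mul_mem x.2 (hgU x x.2))
  have hfco : ∀ (j : ℕ) (x : U), (((⇑f)^[j] x : U) : V) = (⇑(delta ρ (g : H)))^[j] (x : V) := by
    intro j
    induction j with
    | zero => intro x; rfl
    | succ j ihj =>
      intro x
      rw [Function.iterate_succ_apply', Function.iterate_succ_apply', ← ihj]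
      rfl
  have hnil : ∀ x : U, (⇑f)^[2 ^ k] x = 1 := fun x => Subtype.ext (by
    rw [hfco, iterate_delta_two_pow ρ hV]
    show (x : V) * ρ ((g : H) ^ 2 ^ k) x = 1
    rw [x.2 _ ((hgm k).mpr le_rfl), hV])
  have hkerf : f.ker.map U.subtype = fix ρ (A : Set H) := by
    ext x
    constructor
    · rintro ⟨⟨y, hy⟩, hyk, rfl⟩ z hz
      have h1 : ρ g y = y := by
        have h0 : y * ρ g y = 1 := congrArg Subtype.val hyk
        exact mul_left_cancel (h0.trans (hV y).symm)
      obtain ⟨i, hi⟩ := hABg z hz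
      let St : Subgroup H :=
        { carrier := {h | ρ h y = y}
          one_mem' := apply_one ρ y
          mul_mem' := fun {h l} hh hl => by
            show ρ (h * l) y = y
            rw [apply_mul, hl, hh]
          inv_mem' := fun {h} hh => by
            show ρ h⁻¹ y = y
            conv_lhs => rw [← hh]
            rw [← apply_mul, inv_mul_cancel, apply_one] }
      have h2 : (g : H) ^ i * ((g : H) ^ (-i) * z) ∈ St :=
        mul_mem (zpow_mem (show (g : H) ∈ St from h1) i) (show _ ∈ St from hy _ hi)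
      rwa [← mul_assoc, ← zpow_add, add_neg_cancel, zpow_zero, one_mul] at h2
    · intro hx
      refine ⟨⟨x, hUA hx⟩, Subtype.ext ?_, rfl⟩
      show x * ρ g x = 1
      rw [hx g g.2, hV]
  have hidx : (fix ρ (A : Set H)).index = Nat.card f.range * U.index := by
    rw [← relIndex_mul_index hUA]
    congr 1
    rw [← index_ker, ← hkerf, relIndex, ← comap_subtype, comap_map_eq_self_of_injective U.subtype_injective]
  have hBle : Nat.card B ≤ U.index := by
    by_cases hel : ∀ x ∈ B, x * x = 1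
    · exact card_le_index ρ hρ hV hO B ⟨⟨⟨fun x y => Subtype.ext (hc x (hBA x.2) y (hBA y.2))⟩⟩,
        fun x hx => by rw [pow_two]; exact hel x hx⟩
    · simp only [not_forall] at hel
      obtain ⟨x, hx, hx2⟩ := hel
      have hlt : Nat.card B < Nat.card A := lt_of_le_of_ne (card_le_of_le hBA)
        fun h => hbB ((eq_of_le_of_card_ge hBA h.ge).symm ▸ hbA)
      exact (ih _ hlt B rfl (fun x hx y hy => hc x (hBA hx) y (hBA hy)) (hp.to_le hBA)
        ⟨x, hx, hx2⟩).le
  have hUpos : 0 < U.index := Nat.pos_of_ne_zero index_ne_zero_of_finite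
  obtain ⟨u, hu, humove⟩ : ∃ u ∈ U, ρ ((g : H) ^ 2 ^ (k - 1)) u ≠ u := by
    by_contra hall
    simp only [not_exists, not_and, not_not] at hall
    have := (hgm (k - 1)).mp (hfaith _ (pow_mem g.2 _) hall)
    omega
  have himg : f.range.map f ≤ f.range := by
    rintro _ ⟨y, -, rfl⟩; exact ⟨y, rfl⟩
  have hpos1 : 1 ≤ 2 ^ (k - 1) := Nat.one_le_two_pow
  have hbig : 2 ^ 2 ^ (k - 1) ≤ Nat.card f.range := by
    have := two_pow_le f hnil (2 ^ (k - 1) - 1) f.range himg
      ⟨f ⟨u, hu⟩, ⟨_, rfl⟩, ?_⟩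
    · rwa [Nat.sub_add_cancel hpos1] at this
    · rw [← Function.iterate_succ_apply, Nat.succ_eq_add_one, Nat.sub_add_cancel hpos1]
      intro h
      have h1 := congrArg Subtype.val h
      rw [hfco, iterate_delta_two_pow ρ hV] at h1
      exact humove (mul_left_cancel (h1.trans (hV u).symm))
  rw [hidx, hcard]
  suffices hlt : 2 ^ k < Nat.card f.range from
    lt_of_lt_of_le (Nat.mul_lt_mul_of_pos_right hlt Nat.card_pos) (Nat.mul_le_mul_left _ hBle)
  rcases (show k = 2 ∨ 3 ≤ k by omega) with hk' | hk'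
  swap
  · obtain ⟨j, rfl⟩ : ∃ j, k = j + 3 := ⟨k - 3, by omega⟩
    exact lt_of_lt_of_le (Nat.pow_lt_pow_right (by norm_num) (double_lt j)) hbig
  subst hk'
  refine lt_of_le_of_ne hbig fun hfour => ?_
  -- the action of `R ⊔ A` on `U`
  set M := R ⊔ A with hM
  have hMU : ∀ m ∈ M, ∀ x ∈ U, ρ m x ∈ U := by
    let St : Subgroup H :=
      { carrier := {h | ∀ x, x ∈ U ↔ ρ h x ∈ U}
        one_mem' := fun x => by rw [apply_one]
        mul_mem' := fun {h l} hh hl x => by rw [apply_mul, ← hh, ← hl]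
        inv_mem' := fun {h} hh x => by
          rw [hh (ρ h⁻¹ x), ← apply_mul, mul_inv_cancel, apply_one] }
    have hle : M ≤ St := by
      refine sup_le (fun r hr x => ⟨hRU r hr x, fun h => ?_⟩)
        (fun z hz x => ⟨fun h y hy => ?_, fun h y hy => ?_⟩)
      · have := hRU _ (inv_mem hr) _ h
        rwa [← apply_mul, inv_mul_cancel, apply_one] at this
      · rw [← apply_mul, hc y (hBA hy) z hz, apply_mul, h y hy]
      · have := h y hy
        rw [← apply_mul, hc y (hBA hy) z hz, apply_mul] at this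
        exact (ρ z).injective this
    exact fun m hm x => (hle hm x).mp
  let φ : M →* MulAut U :=
    { toFun := fun m =>
        { toFun := fun x => ⟨ρ (m : H) x, hMU m m.2 x x.2⟩
          invFun := fun x => ⟨ρ (m : H)⁻¹ x, hMU _ (inv_mem m.2) x x.2⟩
          left_inv := fun x => Subtype.ext (by
            show ρ (m : H)⁻¹ (ρ (m : H) x) = x
            rw [← apply_mul, inv_mul_cancel, apply_one])
          right_inv := fun x => Subtype.ext (by
            show ρ (m : H) (ρ (m : H)⁻¹ x) = x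
            rw [← apply_mul, mul_inv_cancel, apply_one])
          map_mul' := fun x y => Subtype.ext (map_mul (ρ (m : H)) _ _) }
      map_one' := MulEquiv.ext fun x => Subtype.ext (apply_one ρ _)
      map_mul' := fun m l => MulEquiv.ext fun x => Subtype.ext (apply_mul ρ _ _ _) }
  have hφ : ∀ (m : M) (x : U), ((φ m x : U) : V) = ρ (m : H) x := fun m x => rfl
  letI : CommGroup U := U.toCommGroup
  set P := φ.range with hP
  have hsolv : Group.IsSolvable P := Group.isSolvable_of_surjective φ.rangeRestrict_surjective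
  have hVU : ∀ x : U, x * x = 1 := fun x => Subtype.ext (hV x)
  set π := φ.rangeRestrict with hπ
  have hπ1 : ∀ m : M, π m = 1 ↔ ∀ u ∈ U, ρ (m : H) u = u := by
    intro m
    constructor
    · intro h u hu
      have h1 := congrArg (fun e : P => ((e.1 ⟨u, hu⟩ : U) : V)) h
      exact h1
    · intro h
      exact Subtype.ext (MulEquiv.ext fun x => Subtype.ext (h x x.2))
  have hRM : R ≤ M := le_sup_left
  have hAM : A ≤ M := le_sup_right
  have hRn : (R.subgroupOf M).Normal :=
    normal_subgroupOf_of_le_normalizer (sup_le le_normalizer hAR)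
  set RP := (R.subgroupOf M).map π with hRP
  have hRPn : RP.Normal := hRn.map π φ.rangeRestrict_surjective
  have hRPodd : ¬ 2 ∣ Nat.card RP := fun h => by
    have h1 : Nat.card RP ∣ Nat.card R := (card_map_dvd _ π).trans
      (Nat.card_congr (subgroupOfEquivOfLe hRM).toEquiv).dvd
    exact Nat.two_dvd_ne_zero.mpr (Nat.odd_iff.mp hRodd) (h.trans h1)
  have hdec : ∀ m : M, ∃ r : M, (r : H) ∈ R ∧ ∃ z : M, (z : H) ∈ A ∧ m = r * z := by
    intro m
    have hm : (m : H) ∈ ((R ⊔ A : Subgroup H) : Set H) := m.2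
    rw [coe_mul_of_right_le_normalizer_left R A hAR] at hm
    obtain ⟨r, hr, z, hz, e⟩ := hm
    exact ⟨⟨r, hRM hr⟩, hr, ⟨z, hAM hz⟩, hz, Subtype.ext e.symm⟩
  have hOP : ∀ N : Subgroup P, N.Normal → IsPGroup 2 N → N = ⊥ := by
    intro N hN hNp
    have hdis : N ⊓ RP = ⊥ := by
      obtain ⟨j, hj⟩ := IsPGroup.iff_card.mp (hNp.to_le (inf_le_left : N ⊓ RP ≤ N))
      rcases j with _ | j
      · exact card_eq_one.mp (by rw [hj, pow_zero])
      · exact absurd ((hj ▸ dvd_pow_self 2 j.succ_ne_zero).trans (card_dvd_of_le inf_le_right)) hRPodd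
    have hcomm : ∀ x ∈ N, ∀ r ∈ RP, x * r = r * x := fun x hx r hr =>
      (commute_of_normal_of_disjoint N RP hN hRPn (disjoint_iff.mpr hdis) x r hx hr).eq
    set AP := (A.subgroupOf M).map π with hAP
    have hAPp : IsPGroup 2 AP := (hp.of_equiv (subgroupOfEquivOfLe hAM).symm).map π
    have hsupp : IsPGroup 2 ↥(N ⊔ AP) := hNp.to_sup_of_normal_left hAPp
    rw [eq_bot_iff]
    intro x hx
    rw [mem_bot]
    obtain ⟨m, rfl⟩ := φ.rangeRestrict_surjective x
    obtain ⟨r, hr, z, hz, rfl⟩ := hdec m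
    have hr1 : π r = 1 := by
      have h1 : π r ∈ RP := ⟨r, hr, rfl⟩
      have h2 : π r ∈ N ⊔ AP := by
        have := mul_mem (mem_sup_left (T := AP) hx) (mem_sup_right (S := N)
          (inv_mem (⟨z, hz, rfl⟩ : π z ∈ AP)))
        rwa [map_mul, mul_inv_cancel_right] at this
      obtain ⟨j, hj⟩ := IsPGroup.iff_card.mp
        (hsupp.to_le (inf_le_left : (N ⊔ AP) ⊓ RP ≤ N ⊔ AP))
      rcases j with _ | j
      · exact mem_bot.mp ((card_eq_one.mp (by rw [hj, pow_zero])) ▸ (⟨h2, h1⟩ : π r ∈ (N ⊔ AP) ⊓ RP))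
      · exact absurd ((hj ▸ dvd_pow_self 2 j.succ_ne_zero).trans (card_dvd_of_le inf_le_right)) hRPodd
    rw [map_mul, hr1, one_mul] at hx ⊢
    refine (hπ1 z).mpr fun u hu => ?_
    suffices hzB : (z : H) ∈ B from hu _ hzB
    refine ⟨hz, mem_centralizer_iff.mpr fun s hs => ?_⟩
    have hηR : (z : H) * s * (z : H)⁻¹ * s⁻¹ ∈ R :=
      mul_mem ((mem_normalizer_iff.mp (hAR hz) s).mp hs) (inv_mem hs)
    have hone : π (z * ⟨s, hRM hs⟩ * z⁻¹ * ⟨s, hRM hs⟩⁻¹) = 1 := by
      rw [map_mul, map_mul, map_mul, map_inv, map_inv,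
        hcomm _ hx _ ⟨⟨s, hRM hs⟩, hs, rfl⟩, mul_inv_cancel_right, mul_inv_cancel]
    have h1 : (z : H) * s * (z : H)⁻¹ * s⁻¹ = 1 := by
      refine eq_one_of_fix_le ρ hρ hV (B := B) (hp.to_le hBA)
        (odd_of_mem_fitting ρ hρ hV hO (hRF hηR)) (fun y hy => ?_) fun v hv => ?_
      · exact (mem_centralizer_iff.mp hy.2 _ hηR).symm
      · exact (mem_fix_singleton ρ).mpr ((hπ1 _).mp hone v hv)
    exact (mul_inv_eq_iff_eq_mul.mp (mul_inv_eq_one.mp h1)).symm
  have hRPF : RP ≤ fittingSubgroup P := by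
    have : Group.IsNilpotent (fittingSubgroup H) := Solvable.isNilpotent_fittingSubgroup
    have hRnil : Group.IsNilpotent R :=
      Group.nilpotent_of_surjective (subgroupOfEquivOfLe hRF).toMonoidHom
        (subgroupOfEquivOfLe hRF).surjective
    have h2 : Group.IsNilpotent (R.subgroupOf M) :=
      Group.nilpotent_of_surjective (subgroupOfEquivOfLe hRM).symm.toMonoidHom
        (subgroupOfEquivOfLe hRM).symm.surjective
    have h3 : Group.IsNilpotent RP :=
      Group.nilpotent_of_surjective (π.subgroupMap (R.subgroupOf M)) (π.subgroupMap_surjective _)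
    exact le_sSup ⟨hRPn, h3⟩
  set gM : M := ⟨g, hAM g.2⟩ with hgM
  set bP := π gM * π gM with hbP
  have hg4 : (g : H) ^ 2 ^ 2 ∈ B := (hgm 2).mpr le_rfl
  have hg2 : (g : H) ^ 2 ^ 1 ∉ B := fun h => by have := (hgm 1).mp h; omega
  have hbb : bP * bP = 1 := by
    rw [hbP, ← map_mul, ← map_mul]
    refine (hπ1 _).mpr fun u hu => ?_
    show ρ ((g : H) * g * (g * g)) u = u
    rw [show (g : H) * g * (g * g) = (g : H) ^ 2 ^ 2 by rw [pow_succ, pow_one, pow_mul, pow_two, pow_two]]
    exact hu _ hg4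
  obtain ⟨r₀, hr₀, hr₀ne⟩ : ∃ r ∈ R, (g : H) * g * r ≠ r * ((g : H) * g) := by
    by_contra hall
    simp only [not_exists, not_and, not_not] at hall
    refine hg2 ?_
    rw [pow_one, pow_two]
    exact ⟨mul_mem g.2 g.2, mem_centralizer_iff.mpr fun r hr => (hall r hr).symm⟩
  set r₁ : M := ⟨r₀, hRM hr₀⟩ with hr₁
  set ηM : M := gM * gM * r₁ * (gM * gM)⁻¹ * r₁⁻¹ with hηM
  have hηMR : (ηM : H) ∈ R := mul_mem
    ((mem_normalizer_iff.mp (hAR (mul_mem g.2 g.2)) r₀).mp hr₀) (inv_mem hr₀)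
  have hT : IsTrans P.subtype bP := by
    refine ⟨hbb, ?_, π ηM, hRPF ⟨ηM, hηMR, rfl⟩, fun h => hr₀ne ?_, ?_⟩
    · rw [← card_comm P.subtype hVU]
      have hcomm2 : comm P.subtype bP = f.range.map f := by
        have hd : ∀ x : U, delta P.subtype bP x = f (f x) := fun x => Subtype.ext (by
          show (x : V) * ρ (g : H) (ρ (g : H) x) =
            (x : V) * ρ g x * ρ g ((x : V) * ρ g x)
          rw [← apply_mul]
          exact delta_sq ρ hV _ _)
        ext y
        constructor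
        · rintro ⟨x, rfl⟩; exact ⟨f x, ⟨x, rfl⟩, (hd x).symm⟩
        · rintro ⟨_, ⟨x, rfl⟩, rfl⟩; exact ⟨x, hd x⟩
      rw [hcomm2]
      have hne1 : f (f ⟨u, hu⟩) ≠ 1 := fun h => by
        have h1 := congrArg Subtype.val h
        have h2 := (hfco 2 ⟨u, hu⟩).symm.trans h1
        rw [show (2 : ℕ) = 2 ^ 1 by norm_num, iterate_delta_two_pow ρ hV] at h2
        exact humove (mul_left_cancel (h2.trans (hV u).symm))
      have h1 : 1 < Nat.card ↥(f.range.map f) := one_lt_card_iff_ne_bot _ |>.mpr fun h =>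
        hne1 (mem_bot.mp (h ▸ mem_map_of_mem f ⟨⟨u, hu⟩, rfl⟩))
      have h4 : Nat.card f.range = 4 := by rw [← hfour]; norm_num
      have hlt : Nat.card ↥(f.range.map f) < 4 := by
        refine h4 ▸ lt_of_le_of_ne (card_le_of_le himg) fun heq => ?_
        have heq' := eq_of_le_of_card_ge himg heq.ge
        have key : ∀ j : ℕ, ∀ y ∈ f.range, ∃ x, (⇑f)^[j] x = y := by
          intro j
          induction j with
          | zero => intro y _; exact ⟨y, rfl⟩
          | succ j ihj =>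
            intro y hy
            obtain ⟨z, hz, rfl⟩ := heq'.ge hy
            obtain ⟨w, rfl⟩ := ihj z hz
            exact ⟨w, Function.iterate_succ_apply' _ _ _⟩
        obtain ⟨x, hx⟩ := key (2 ^ 2) _ (heq'.le (mem_map_of_mem f ⟨⟨u, hu⟩, rfl⟩))
        rw [hnil] at hx
        exact hne1 hx.symm
      have h2 := card_dvd_of_le himg
      rw [h4] at h2
      generalize Nat.card ↥(f.range.map f) = c at h1 hlt h2
      interval_cases c <;> omega
    · have h1 : (ηM : H) = 1 := by
        refine eq_one_of_fix_le ρ hρ hV (B := B) (hp.to_le hBA)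
          (odd_of_mem_fitting ρ hρ hV hO (hRF hηMR)) (fun y hy => ?_) fun v hv => ?_
        · exact (mem_centralizer_iff.mp hy.2 _ hηMR).symm
        · exact (mem_fix_singleton ρ).mpr ((hπ1 _).mp h v hv)
      exact mul_inv_eq_iff_eq_mul.mp (mul_inv_eq_one.mp h1)
    · have hbi : bP⁻¹ = bP := inv_eq_of_mul_eq_one_right hbb
      rw [hηM, map_mul, map_mul, map_mul, map_inv, map_inv, map_mul, ← hbP]
      simp only [mul_inv_rev, inv_inv, hbi]
      calc bP * (bP * π r₁ * bP * (π r₁)⁻¹) * bP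
          = (bP * bP) * π r₁ * (bP * ((π r₁)⁻¹ * bP)) := by group
        _ = π r₁ * (bP * ((π r₁)⁻¹ * bP)) := by rw [hbb, one_mul]
  exact not_isTrans_sq P.subtype P.subtype_injective hVU hOP (π gM) hT

theorem elementary_of_index_le {A : Subgroup H} (hc : ∀ x ∈ A, ∀ y ∈ A, x * y = y * x)
    (hp : IsPGroup 2 A) (h : (fix ρ (A : Set H)).index ≤ Nat.card A) :
    IsElementaryAbelian 2 A := by
  refine ⟨⟨⟨fun x y => Subtype.ext (hc x x.2 y y.2)⟩⟩, fun x hx => ?_⟩
  by_contra hx2
  have := card_lt_index ρ hρ hV hO A hc hp ⟨x, hx, by rwa [← pow_two]⟩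
  omega

end CfsgLib.AbelOff
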