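import Cfsg.Agent.LocalB.TransPairs
import Cfsg.Agent.Invol.Dihedral
import Cfsg.Agent.ZJ.DihedralSection
import Mathlib.GroupTheory.NoncommPiCoprod

/-! A normal set of transvections generates a direct product of symmetric groups of degree three. -/

set_option autoImplicit false
set_option linter.unusedVariables false
set_option linter.unusedSectionVars false
set_option linter.style.haveILetI false

namespace CfsgLib.AbelOff

open Subgroup Cfsg CfsgLib CfsgLib.OddOffender

universe u v

variable {H : Type u} [Group H] {V : Type v} [CommGroup V] {ρ : H →* MulAut V}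
variable [Finite H] [Finite V] (hρ : Function.Injective ρ) (hV : ∀ x : V, x * x = 1)
variable [Group.IsSolvable H] (hO : ∀ N : Subgroup H, N.Normal → IsPGroup 2 N → N = ⊥)

include hρ hV hO

theorem zpowers_eq_of_mem {η ζ : H} (hη : IsFactor ρ η) (hζ : IsFactor ρ ζ)
    (h : ζ ∈ zpowers η) : zpowers ζ = zpowers η := by
  have : Fact (Nat.Prime 3) := ⟨Nat.prime_three⟩
  refine eq_of_le_of_card_ge (zpowers_le.mpr h) ?_
  rw [Nat.card_zpowers, Nat.card_zpowers, orderOf_eq_prime hη.2.1 hη.2.2.1,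
    orderOf_eq_prime hζ.2.1 hζ.2.2.1]

theorem commute_of_zpowers_ne {a η a' η' : H} {v v' : V} (h : TF ρ a η v) (h' : TF ρ a' η' v')
    (hne : zpowers η' ≠ zpowers η) : a * a' = a' * a := by
  rcases h.commute_or (hρ := hρ) (hV := hV) (hO := hO) h' with e | ⟨hz, -⟩
  · exact e
  · exact absurd (zpowers_eq_of_mem hρ hV hO h.fac h'.fac hz) hne

theorem mul_mem_of_zpowers_eq {a η a' η' : H} {v v' : V} (h : TF ρ a η v) (h' : TF ρ a' η' v')
    (heq : zpowers η' = zpowers η) : a' * a ∈ zpowers η := by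
  rcases h.commute_or (hρ := hρ) (hV := hV) (hO := hO) h' with e | ⟨-, -, hz, -⟩
  swap
  · exact hz
  have hz : η' ∈ zpowers η := heq ▸ mem_zpowers η'
  have hc := comm_eq_of_mem_zpowers ρ hρ hV hO h.fac h'.fac hz
  have hf := fix_eq_of_mem_zpowers ρ hρ hV hO h.fac h'.fac hz
  have hv' : v' ∈ comm ρ η := hc ▸ h'.mem
  have hv : v ∈ comm ρ η' := hc.symm ▸ h.mem
  have hvv : v' = v := by
    by_contra hvv
    have h1 : ρ a v' = v' * v := h.moves v' hv' h'.ne hvv
    have h2 : ρ a' v = v * v' := h'.moves v hv h.ne (Ne.symm hvv)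
    have h3 := congrArg (fun g => ρ g v) e
    rw [apply_mul, apply_mul] at h3
    simp only [h.fixes, h2, map_mul, h1] at h3
    -- `v * (v' * v) = v * v'`
    exact h.ne (mul_eq_left.mp (mul_left_cancel h3))
  subst hvv
  have haa : a' = a := by
    refine hρ (MulEquiv.ext fun x => ?_)
    obtain ⟨f, hf', w, hw, rfl⟩ := exists_split ρ hρ hV hO h.fac x
    rw [map_mul, map_mul, h.triv f hf', h'.triv f (hf ▸ hf')]
    congr 1
    by_cases hw1 : w = 1
    · rw [hw1, map_one, map_one]
    · by_cases hwv : w = v'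
      · rw [hwv, h.fixes, h'.fixes]
      · rw [h.moves w hw hw1 hwv, h'.moves w (hc.symm ▸ hw) hw1 hwv]
  rw [haa, h.sq]
  exact one_mem _

/-- A conjugation invariant set of transvections generates a product of copies of `S₃`. -/
theorem exists_equiv_pi (S : Set H) (hS : ∀ a ∈ S, IsTrans ρ a)
    (hconj : ∀ g : H, ∀ a ∈ S, g * a * g⁻¹ ∈ S) (hne : S.Nonempty) :
    ∃ n : ℕ, 1 ≤ n ∧ Nonempty (↥(closure S) ≃* (Fin n → Equiv.Perm (Fin 3))) := by
  classical
  choose ηf vf hTF using fun a : S => exists_TF ρ hρ hV hO (hS a a.2)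
  let E : S → Subgroup H := fun a => zpowers (ηf a)
  let n := Nat.card (Set.range E)
  let e : Set.range E ≃ Fin n := Finite.equivFin _
  have hrep : ∀ i : Fin n, ∃ a : S, E a = (e.symm i).1 := fun i => (e.symm i).2
  choose rep hrepE using hrep
  have hinj : ∀ i j, zpowers (ηf (rep i)) = zpowers (ηf (rep j)) → i = j := fun i j h => by
    have h' : (e.symm i).1 = (e.symm j).1 := by rw [← hrepE, ← hrepE]; exact h
    exact e.symm.injective (Subtype.ext h')
  have hcov : ∀ b : S, ∃ i, zpowers (ηf b) = zpowers (ηf (rep i)) := fun b =>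
    ⟨e ⟨E b, b, rfl⟩, by
      have := hrepE (e ⟨E b, b, rfl⟩)
      rw [e.symm_apply_apply] at this
      exact this.symm⟩
  let a : Fin n → H := fun i => (rep i : H)
  let η : Fin n → H := fun i => ηf (rep i)
  let a' : Fin n → H := fun i => η i * a i * (η i)⁻¹
  have hT : ∀ i, TF ρ (a i) (η i) (vf (rep i)) := fun i => hTF (rep i)
  have hT' : ∀ i, TF ρ (a' i) (η i) (ρ (η i) (vf (rep i))) := fun i => by
    have h := (hT i).conj (hρ := hρ) (hV := hV) (hO := hO) (η i)
    rwa [mul_inv_cancel_right] at h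
  have hη3 : ∀ i, orderOf (η i) = 3 := fun i =>
    (orderOf_eq_prime (hp := ⟨Nat.prime_three⟩) (hT i).fac.2.1 (hT i).fac.2.2.1)
  have haa' : ∀ i, a i * a' i = η i := fun i => by
    show a i * (η i * a i * (η i)⁻¹) = η i
    have hai : (a i)⁻¹ = a i := inv_eq_of_mul_eq_one_right (hT i).sq
    calc a i * (η i * a i * (η i)⁻¹) = a i * η i * (a i)⁻¹ * (η i)⁻¹ := by rw [hai]; group
      _ = (η i)⁻¹ * (η i)⁻¹ := by rw [(hT i).inv]
      _ = (η i) ^ 3 * ((η i)⁻¹ * (η i)⁻¹) := by rw [(hT i).fac.2.1, one_mul]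
      _ = η i := by rw [pow_succ, pow_two]; group
  let D : Fin n → Subgroup H := fun i => closure {a i, a' i}
  have hDS : ∀ i, D i ≤ closure S := fun i => closure_mono (by
    rintro x (rfl | rfl)
    · exact (rep i).2
    · exact hconj _ _ (rep i).2)
  have haD : ∀ i, a i ∈ D i := fun i => subset_closure (Or.inl rfl)
  have hηD : ∀ i, η i ∈ D i := fun i => haa' i ▸ mul_mem (haD i) (subset_closure (Or.inr rfl))
  have hcovD : ∀ b : S, ∃ i, (b : H) ∈ D i := fun b => by
    obtain ⟨i, hi⟩ := hcov b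
    have h1 := mul_mem_of_zpowers_eq hρ hV hO (hT i) (hTF b) hi
    refine ⟨i, ?_⟩
    have h2 : (b : H) * a i ∈ D i := zpowers_le.mpr (hηD i) h1
    have h3 := mul_mem h2 (haD i)
    rwa [mul_assoc, (hT i).sq, mul_one] at h3
  have hcomm : Pairwise fun i j : Fin n => ∀ x y : H, x ∈ D i → y ∈ D j → Commute x y := by
    intro i j hij x y hx hy
    have hne' : zpowers (η j) ≠ zpowers (η i) := fun h => hij (hinj j i h).symm
    have key : ∀ p ∈ ({a i, a' i} : Set H), ∀ q ∈ ({a j, a' j} : Set H), p * q = q * p := by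
      rintro p (rfl | rfl) q (rfl | rfl)
      · exact commute_of_zpowers_ne hρ hV hO (hT i) (hT j) hne'
      · exact commute_of_zpowers_ne hρ hV hO (hT i) (hT' j) hne'
      · exact commute_of_zpowers_ne hρ hV hO (hT' i) (hT j) hne'
      · exact commute_of_zpowers_ne hρ hV hO (hT' i) (hT' j) hne'
    have h1 : D i ≤ centralizer (D j : Set H) := by
      rw [centralizer_closure]
      exact (closure_le _).mpr fun p hp => mem_centralizer_iff.mpr fun q hq => (key p hp q hq).symm
    exact (mem_centralizer_iff.mp (h1 hx) y hy).symm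
  -- each factor is symmetric of degree three
  have hD : ∀ i, Nonempty (Equiv.Perm (Fin 3) ≃* ↥(D i)) := by
    intro i
    have ha1 : a i ≠ 1 := fun h => by
      have h2 := (hT i).inv
      rw [h, one_mul, inv_one, mul_one] at h2
      have h3 : η i ^ 2 = 1 := by rw [pow_two]; exact eq_inv_iff_mul_eq_one.mp h2
      exact (hT i).fac.2.2.1 (by simpa [pow_succ, ← pow_two, h3] using (hT i).fac.2.1)
    have ha2 : orderOf (a i) = 2 := Invol.orderOf_eq_two (hT i).sq ha1
    have ha'1 : a' i ≠ 1 := fun h => ha1 (conj_eq_one_iff.mp h)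
    have ha'2 : orderOf (a' i) = 2 := Invol.orderOf_eq_two (hT' i).sq ha'1
    have hne2 : a i ≠ a' i := fun h => (hT i).fac.2.2.1 (by rw [← haa' i, ← h, (hT i).sq])
    obtain ⟨e1⟩ := Invol.nonempty_dihedral_equiv ha2 ha'2 hne2
    rw [haa' i, hη3 i] at e1
    obtain ⟨e2⟩ := ZJ.nonempty_dihedral_perm_three
    exact ⟨(e1.trans e2).symm⟩
  let eD := fun i => (hD i).some
  let φ : ∀ i : Fin n, Equiv.Perm (Fin 3) →* H := fun i => (D i).subtype.comp (eD i).toMonoidHom
  have hφc : Pairwise fun i j => ∀ x y, Commute (φ i x) (φ j y) :=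
    fun i j hij x y => hcomm hij _ _ (eD i x).2 (eD j y).2
  have hrange : ∀ i, (φ i).range = D i := fun i => by
    ext x
    constructor
    · rintro ⟨y, rfl⟩; exact (eD i y).2
    · intro hx
      exact ⟨(eD i).symm ⟨x, hx⟩, congrArg Subtype.val ((eD i).apply_symm_apply ⟨x, hx⟩)⟩
  have hindep : iSupIndep fun i => (φ i).range := by
    intro i
    rw [disjoint_iff, eq_bot_iff]
    intro x hx
    rw [mem_bot]
    obtain ⟨⟨y, rfl⟩, hx2⟩ := hx
    have hy : ∀ z, y * z = z * y := by
      have hle : (⨆ (j) (_ : j ≠ i), (φ j).range) ≤ centralizer (D i : Set H) :=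
        iSup₂_le fun j hj => by
          rw [hrange]
          exact fun w hw => mem_centralizer_iff.mpr fun q hq => (hcomm hj w q hw hq).eq.symm
      intro z
      have := mem_centralizer_iff.mp (hle hx2) (φ i z) ((hrange i).le ⟨z, rfl⟩)
      rw [← map_mul, ← map_mul] at this
      exact ((eD i).injective (Subtype.ext this)).symm
    have : y = 1 := (by decide : ∀ y : Equiv.Perm (Fin 3), (∀ z, y * z = z * y) → y = 1) y hy
    rw [this, map_one]
  refine ⟨n, ?_, ?_⟩
  · obtain ⟨b, hb⟩ := hne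
    have : Nonempty (Set.range E) := ⟨⟨E ⟨b, hb⟩, _, rfl⟩⟩
    exact Nat.card_pos
  · let Φ := MonoidHom.noncommPiCoprod φ hφc
    have hΦi : Function.Injective Φ := MonoidHom.injective_noncommPiCoprod_of_iSupIndep φ hindep
      fun i => (D i).subtype_injective.comp (eD i).injective
    have hΦr : Φ.range = closure S := by
      rw [MonoidHom.noncommPiCoprod_range]
      refine le_antisymm (iSup_le fun i => (hrange i).le.trans (hDS i)) ((closure_le _).mpr ?_)
      intro b hb
      obtain ⟨i, hi⟩ := hcovD ⟨b, hb⟩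
      exact mem_iSup_of_mem i ((hrange i).ge hi)
    exact ⟨((MonoidHom.ofInjective hΦi).trans (MulEquiv.subgroupCongr hΦr)).symm⟩

end CfsgLib.AbelOff
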